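import Cfsg.Agent.H6.L37.Rep
import Cfsg.Agent.H6.L37.C1.Main
import Cfsg.Agent.H6.L37.C2.Main

set_option autoImplicit false
set_option maxRecDepth 100000
set_option Elab.async false

namespace Cfsg.H6.L37

theorem cover : Cover (gen ev Ws) ⊤ 5586 := hX ▸ C1.cover hev hR

theorem ub : UB (⊤ : Subgroup Grp) 1876896 :=
  (UB.bot.cover (C2.cover hev hR)).cover cover

def I : List Ivl := [(1, 22, [5,4,3,1,4,3,1,5,4,3,2,4,6,5,4,3,4,3,1,5,4,3,2,4,3,5,4,6,5]), (22, 46, [5,4,3,1,4,6,5,4,3,4,3,1,5,4,3,2,4,3,5,4,6,5]), (46, 70, [5,4,3,2,4,6,5,4,3,4,3,2,5,4,3,1,4,3,5,4,6,5]), (70, 98, [5]), (98, 126, [5,4,6,5]), (126, 210, [5,4,3,1,6,5,4,3,1,4,3,5,4,6,5]), (210, 294, [5,4,3,1,4,6,5,4,3,1,4,3,5,4,6,5]), (294, 378, [5,4,3,2,4,6,5,4,3,2,4,3,5,4,6,5]), (378, 462, [5,4,3,1,4,3,1,5,4,3,2,6,5,4,3,1,4,3,5,4,6,5]),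 (462, 546, [5,4,3,1,6,5,4,3,1,4,3,1,5,4,3,1,6,5,4,3,4,5]), (546, 714, [5,4,3,4,5]), (714, 882, [5,4,3,1,4,3,4,5]), (882, 1050, [5,4,3,1,4,3,5,4,6,5]), (1050, 1218, [5,4,3,1,6,5,4,3,4,5]), (1218, 1386, [5,4,3,2,4,3,5,4,6,5]), (1386, 1554, [5,4,3,2,6,5,4,3,4,5]), (1554, 1722, [5,4,3,1,4,3,4,5,4,3,1,4,3,4,5]), (1722, 1890, [5,4,3,1,4,3,4,5,4,3,2,4,3,4,5]), (1890, 2058, [5,4,3,2,4,3,4,5,4,3,2,4,3,4,5]), (2058, 2226, [5,4,3,1,4,3,2,4,5,4,3,1,4,3,4,5]), (2226, 2394, [5,4,3,1,4,3,1,5,4,3,1,6,5,4,3,4,5]), (2394, 2562, [5,4,3,1,4,3,1,5,4,3,2,6,5,4,3,4,5]), (2562, 2730, [5,4,3,1,4,3,2,5,4,3,1,6,5,4,3,4,5]), (2730, 2898, [5,4,3,1,4,3,4,5,4,3,2,4,3,5,4,6,5]), (2898, 3066, [5,4,3,2,4,3,1,5,4,3,2,6,5,4,3,4,5]), (3066, 3234, [5,4,3,1,4,6,5,4,3,4,3,2,5,4,3,1,4,3,5,4,6,5]), (3234, 3570, [5,4,3,1,4,3,1,5,4,3,4,5]),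 (3570, 3906, [5,4,3,1,4,3,2,5,4,3,4,5]), (3906, 4242, [5,4,3,2,4,3,2,5,4,3,4,5]), (4242, 4578, [5,4,3,1,4,6,5,4,3,2,4,3,5,4,6,5]), (4578, 4914, [5,4,3,2,4,6,5,4,3,1,4,3,5,4,6,5]), (4914, 5250, [5,4,3,1,4,3,2,5,4,3,2,6,5,4,3,4,5]), (5250, 5586, [5,4,3,1,4,3,4,5,4,3,1,4,3,5,4,6,5])]

theorem act : ∃ φ : Grp →* Equiv.Perm ℕ, IsAct φ ev img 5586 7 := by
  obtain ⟨ψ, hψ⟩ := lift rep.1 rep.2.1
  exact ⟨_, rep.2.2.comp ψ hψ⟩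

/-- The permutation representation. -/
noncomputable def φ : Grp →* Equiv.Perm ℕ := act.choose

theorem hφ : IsAct φ ev img 5586 7 := act.choose_spec

theorem prim : Prim φ ev (gen ev Ws) 5586 I :=
  prim_sound hφ cover (List.forall_mem_cons.mpr ⟨iv0 hφ, (List.forall_mem_cons.mpr ⟨iv1 hφ, (List.forall_mem_cons.mpr ⟨iv2 hφ, (List.forall_mem_cons.mpr ⟨iv3 hφ, (List.forall_mem_cons.mpr ⟨iv4 hφ, (List.forall_mem_cons.mpr ⟨iv5 hφ, (List.forall_mem_cons.mpr ⟨iv6 hφ, (List.forall_mem_cons.mpr ⟨iv7 hφ, (List.forall_mem_cons.mpr ⟨iv8 hφ, (List.forall_mem_cons.mpr ⟨iv9 hφ, (List.forall_mem_cons.mpr ⟨iv10 hφ, (List.forall_mem_cons.mpr ⟨iv11 hφ, (List.forall_mem_cons.mpr ⟨iv12 hφ, (List.forall_mem_cons.mpr ⟨iv13 hφ, (List.forall_mem_cons.mpr ⟨iv14 hφ, (List.forall_mem_cons.mpr ⟨iv15 hφ, (List.forall_mem_cons.mpr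 ⟨iv16 hφ, (List.forall_mem_cons.mpr ⟨iv17 hφ, (List.forall_mem_cons.mpr ⟨iv18 hφ, (List.forall_mem_cons.mpr ⟨iv19 hφ, (List.forall_mem_cons.mpr ⟨iv20 hφ, (List.forall_mem_cons.mpr ⟨iv21 hφ, (List.forall_mem_cons.mpr ⟨iv22 hφ, (List.forall_mem_cons.mpr ⟨iv23 hφ, (List.forall_mem_cons.mpr ⟨iv24 hφ, (List.forall_mem_cons.mpr ⟨iv25 hφ, (List.forall_mem_cons.mpr ⟨iv26 hφ, (List.forall_mem_cons.mpr ⟨iv27 hφ, (List.forall_mem_cons.mpr ⟨iv28 hφ, (List.forall_mem_cons.mpr ⟨iv29 hφ, (List.forall_mem_cons.mpr ⟨iv30 hφ, (List.forall_mem_cons.mpr ⟨iv31 hφ, (List.forall_mem_cons.mpr ⟨iv32 hφ, (by simp)⟩)⟩)⟩)⟩)⟩)⟩)⟩)⟩)⟩)⟩)⟩)⟩)⟩)⟩)⟩)⟩)⟩)⟩)⟩)⟩)⟩)⟩)⟩)⟩)⟩)⟩)⟩)⟩)⟩)⟩)⟩)⟩)⟩) (by decide +kernel)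

theorem coatom : IsCoatom (gen ev Ws) :=
  prim.isCoatom hφ hX (C := [[], [0,0,1,0,2,3,0,3], [0,0,1,4,0,4,0,4], [0,0,4,1,0,4,0,4], [0], [0,2,0,2,0,2,3], [0,3,0,2,0,1,0], [0,3,1,0,2,0,3,1,0,4], [0,1,3,0,2,0,1,3,0,4], [0,3,1,0,1,3,0,0], [0,0,3,0,2,3,1,0], [0,2,0,4], [0,0,3,2,3], [0,1,2,1,1,0,4], [0,1,0,1,0,4], [0,1,1,2,1,0,4], [0,3,1,2,0,1,3,0], [0,0,0,2,0,1,2,3], [0,0,0,0,3,4], [0,0,1,1,0,2,0,3], [0,1,0,1,3,0], [0,0,1,0,2,0,3], [0,0,1,1,0,0], [0,0,4], [0,3,0,1,2,3], [0,0,2,0,0,3], [0,3,2,0,1,0,3], [0,0,0,2,3,1,0]]) (by decide +kernel)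

def lW0 : List (List ℕ) := [[nat_lit 3], [nat_lit 6, nat_lit 2], [nat_lit 4, nat_lit 3, nat_lit 4, nat_lit 2, nat_lit 3, nat_lit 4]]

theorem l0 : lvlChk img 5586 7 [1,0] (2, lW0, unp 3 (nat_lit 0x13000000020200000201)) = true := by
  decide +kernel

def lW1 : List (List ℕ) := [[nat_lit 1, nat_lit 3, nat_lit 2]]

theorem l1 : lvlChk img 5586 7 [2,1,0] (13, lW1, unp 1 (nat_lit 0xd00)) = true := by
  decide +kernel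

def lW2 : List (List ℕ) := [[nat_lit 3]]

theorem l2 : lvlChk img 5586 7 [13,2,1,0] (3, lW2, unp 1 (nat_lit 0x300)) = true := by
  decide +kernel

theorem finite : Finite Grp := ub.top.1

def bs : List ℕ := [3,13,2,1,0]

theorem lb : LBn φ ⊤ 5586 bs 1876896 := by
  have := finite
  exact LBn.cast ((((prim.lb2 (e := I.head (by decide)) (List.head_mem _)).stepT hφ l0).stepT hφ l1).stepT hφ l2) (by decide +kernel)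

theorem main : Nat.card Grp = 1876896 ∧ fixS φ bs = ⊥ ∧ Oracle ev img 7 bs := by
  have := finite
  exact lb.oracle hφ ub.top.2

theorem normal (N : Subgroup Grp) [N.Normal] (hN : N ≠ ⊥) :
    ∀ t ∈ ([[1], [3], [4], [5], [6]] : List (List ℕ)), evL ev t ∈ N := by
  have := finite
  exact prim.normal_contains hev coatom lb.2 main.2.1 main.2.2 (p := 19) (k := 1) (j := 1) (by norm_num)
    main.1 (x := [4,2,3,5,6]) (St := [([4,2,3,5,6], [], [4], 3, 2), ([4], [], [1], 2, 3), ([1], [], [3], 3, 2), ([4], [], [5], 3, 2), ([5], [], [6], 3, 2)]) (by decide +kernel) N hN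

theorem simple : IsSimpleGroup Grp := by
  have := prim.nontrivial
  exact isSimple_of_contains hX normal

end Cfsg.H6.L37
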