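import Cfsg.Agent.H6.L37.Pres
import Cfsg.Agent.H6.L37.Chk0
import Cfsg.Agent.H6.L37.Chk1
import Cfsg.Agent.H6.L37.Chk2
import Cfsg.Agent.H6.L37.Chk3
import Cfsg.Agent.H6.L37.Chk4

set_option autoImplicit false
set_option maxRecDepth 100000
set_option Elab.async false

namespace Cfsg.H6.L37

theorem ptOK : PtOK img 5586 LS EQS := ptOK_of_chk fun p h1 h2 => by
  rw [← ptU_eq]
  exact (range_join (range_join (allR_range p0 (by norm_num : 0 + 1600 = 1600)) (allR_range p1 (by norm_num : 1600 + 1600 = 3200))) (range_join (allR_range p2 (by norm_num : 3200 + 1600 = 4800)) (allR_range p3 (by norm_num : 4800 + 786 = 5586)))) p h1 h2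

theorem hrep : repOK 7 1694364648669696 LS EQS D L37.R = true := by decide +kernel

theorem rep : Good (evR img 5586 7) 1694364648669696 ∧ Rels (evR img 5586 7) L37.R ∧
    IsAct (MonoidHom.id _) (evR img 5586 7) img 5586 7 := rep_sound ptOK hrep

theorem iv0 {G : Type*} [Group G] {φ : G →* Equiv.Perm ℕ} {ev : ℕ → G} (h : IsAct φ ev img 5586 7) :
    orb φ (gen ev Ws) 1 = Set.Ico 1 22 :=
  ivl_sound h (by decide +kernel) (allR_range q0_0 (by norm_num : 1 + 21 = 22))

theorem iv1 {G : Type*} [Group G] {φ : G →* Equiv.Perm ℕ} {ev : ℕ → G} (h : IsAct φ ev img 5586 7) :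
    orb φ (gen ev Ws) 22 = Set.Ico 22 46 :=
  ivl_sound h (by decide +kernel) (allR_range q1_0 (by norm_num : 22 + 24 = 46))

theorem iv2 {G : Type*} [Group G] {φ : G →* Equiv.Perm ℕ} {ev : ℕ → G} (h : IsAct φ ev img 5586 7) :
    orb φ (gen ev Ws) 46 = Set.Ico 46 70 :=
  ivl_sound h (by decide +kernel) (allR_range q2_0 (by norm_num : 46 + 24 = 70))

theorem iv3 {G : Type*} [Group G] {φ : G →* Equiv.Perm ℕ} {ev : ℕ → G} (h : IsAct φ ev img 5586 7) :
    orb φ (gen ev Ws) 70 = Set.Ico 70 98 :=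
  ivl_sound h (by decide +kernel) (allR_range q3_0 (by norm_num : 70 + 28 = 98))

theorem iv4 {G : Type*} [Group G] {φ : G →* Equiv.Perm ℕ} {ev : ℕ → G} (h : IsAct φ ev img 5586 7) :
    orb φ (gen ev Ws) 98 = Set.Ico 98 126 :=
  ivl_sound h (by decide +kernel) (allR_range q4_0 (by norm_num : 98 + 28 = 126))

theorem iv5 {G : Type*} [Group G] {φ : G →* Equiv.Perm ℕ} {ev : ℕ → G} (h : IsAct φ ev img 5586 7) :
    orb φ (gen ev Ws) 126 = Set.Ico 126 210 :=
  ivl_sound h (by decide +kernel) (allR_range q5_0 (by norm_num : 126 + 84 = 210))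

theorem iv6 {G : Type*} [Group G] {φ : G →* Equiv.Perm ℕ} {ev : ℕ → G} (h : IsAct φ ev img 5586 7) :
    orb φ (gen ev Ws) 210 = Set.Ico 210 294 :=
  ivl_sound h (by decide +kernel) (allR_range q6_0 (by norm_num : 210 + 84 = 294))

theorem iv7 {G : Type*} [Group G] {φ : G →* Equiv.Perm ℕ} {ev : ℕ → G} (h : IsAct φ ev img 5586 7) :
    orb φ (gen ev Ws) 294 = Set.Ico 294 378 :=
  ivl_sound h (by decide +kernel) (allR_range q7_0 (by norm_num : 294 + 84 = 378))

theorem iv8 {G : Type*} [Group G] {φ : G →* Equiv.Perm ℕ} {ev : ℕ → G} (h : IsAct φ ev img 5586 7) :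
    orb φ (gen ev Ws) 378 = Set.Ico 378 462 :=
  ivl_sound h (by decide +kernel) (allR_range q8_0 (by norm_num : 378 + 84 = 462))

theorem iv9 {G : Type*} [Group G] {φ : G →* Equiv.Perm ℕ} {ev : ℕ → G} (h : IsAct φ ev img 5586 7) :
    orb φ (gen ev Ws) 462 = Set.Ico 462 546 :=
  ivl_sound h (by decide +kernel) (allR_range q9_0 (by norm_num : 462 + 84 = 546))

theorem iv10 {G : Type*} [Group G] {φ : G →* Equiv.Perm ℕ} {ev : ℕ → G} (h : IsAct φ ev img 5586 7) :
    orb φ (gen ev Ws) 546 = Set.Ico 546 714 :=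
  ivl_sound h (by decide +kernel) (allR_range q10_0 (by norm_num : 546 + 168 = 714))

theorem iv11 {G : Type*} [Group G] {φ : G →* Equiv.Perm ℕ} {ev : ℕ → G} (h : IsAct φ ev img 5586 7) :
    orb φ (gen ev Ws) 714 = Set.Ico 714 882 :=
  ivl_sound h (by decide +kernel) (allR_range q11_0 (by norm_num : 714 + 168 = 882))

theorem iv12 {G : Type*} [Group G] {φ : G →* Equiv.Perm ℕ} {ev : ℕ → G} (h : IsAct φ ev img 5586 7) :
    orb φ (gen ev Ws) 882 = Set.Ico 882 1050 :=
  ivl_sound h (by decide +kernel) (allR_range q12_0 (by norm_num : 882 + 168 = 1050))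

theorem iv13 {G : Type*} [Group G] {φ : G →* Equiv.Perm ℕ} {ev : ℕ → G} (h : IsAct φ ev img 5586 7) :
    orb φ (gen ev Ws) 1050 = Set.Ico 1050 1218 :=
  ivl_sound h (by decide +kernel) (allR_range q13_0 (by norm_num : 1050 + 168 = 1218))

theorem iv14 {G : Type*} [Group G] {φ : G →* Equiv.Perm ℕ} {ev : ℕ → G} (h : IsAct φ ev img 5586 7) :
    orb φ (gen ev Ws) 1218 = Set.Ico 1218 1386 :=
  ivl_sound h (by decide +kernel) (allR_range q14_0 (by norm_num : 1218 + 168 = 1386))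

theorem iv15 {G : Type*} [Group G] {φ : G →* Equiv.Perm ℕ} {ev : ℕ → G} (h : IsAct φ ev img 5586 7) :
    orb φ (gen ev Ws) 1386 = Set.Ico 1386 1554 :=
  ivl_sound h (by decide +kernel) (allR_range q15_0 (by norm_num : 1386 + 168 = 1554))

theorem iv16 {G : Type*} [Group G] {φ : G →* Equiv.Perm ℕ} {ev : ℕ → G} (h : IsAct φ ev img 5586 7) :
    orb φ (gen ev Ws) 1554 = Set.Ico 1554 1722 :=
  ivl_sound h (by decide +kernel) (allR_range q16_0 (by norm_num : 1554 + 168 = 1722))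

theorem iv17 {G : Type*} [Group G] {φ : G →* Equiv.Perm ℕ} {ev : ℕ → G} (h : IsAct φ ev img 5586 7) :
    orb φ (gen ev Ws) 1722 = Set.Ico 1722 1890 :=
  ivl_sound h (by decide +kernel) (allR_range q17_0 (by norm_num : 1722 + 168 = 1890))

theorem iv18 {G : Type*} [Group G] {φ : G →* Equiv.Perm ℕ} {ev : ℕ → G} (h : IsAct φ ev img 5586 7) :
    orb φ (gen ev Ws) 1890 = Set.Ico 1890 2058 :=
  ivl_sound h (by decide +kernel) (allR_range q18_0 (by norm_num : 1890 + 168 = 2058))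

theorem iv19 {G : Type*} [Group G] {φ : G →* Equiv.Perm ℕ} {ev : ℕ → G} (h : IsAct φ ev img 5586 7) :
    orb φ (gen ev Ws) 2058 = Set.Ico 2058 2226 :=
  ivl_sound h (by decide +kernel) (allR_range q19_0 (by norm_num : 2058 + 168 = 2226))

theorem iv20 {G : Type*} [Group G] {φ : G →* Equiv.Perm ℕ} {ev : ℕ → G} (h : IsAct φ ev img 5586 7) :
    orb φ (gen ev Ws) 2226 = Set.Ico 2226 2394 :=
  ivl_sound h (by decide +kernel) (allR_range q20_0 (by norm_num : 2226 + 168 = 2394))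

theorem iv21 {G : Type*} [Group G] {φ : G →* Equiv.Perm ℕ} {ev : ℕ → G} (h : IsAct φ ev img 5586 7) :
    orb φ (gen ev Ws) 2394 = Set.Ico 2394 2562 :=
  ivl_sound h (by decide +kernel) (allR_range q21_0 (by norm_num : 2394 + 168 = 2562))

theorem iv22 {G : Type*} [Group G] {φ : G →* Equiv.Perm ℕ} {ev : ℕ → G} (h : IsAct φ ev img 5586 7) :
    orb φ (gen ev Ws) 2562 = Set.Ico 2562 2730 :=
  ivl_sound h (by decide +kernel) (allR_range q22_0 (by norm_num : 2562 + 168 = 2730))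

theorem iv23 {G : Type*} [Group G] {φ : G →* Equiv.Perm ℕ} {ev : ℕ → G} (h : IsAct φ ev img 5586 7) :
    orb φ (gen ev Ws) 2730 = Set.Ico 2730 2898 :=
  ivl_sound h (by decide +kernel) (allR_range q23_0 (by norm_num : 2730 + 168 = 2898))

theorem iv24 {G : Type*} [Group G] {φ : G →* Equiv.Perm ℕ} {ev : ℕ → G} (h : IsAct φ ev img 5586 7) :
    orb φ (gen ev Ws) 2898 = Set.Ico 2898 3066 :=
  ivl_sound h (by decide +kernel) (allR_range q24_0 (by norm_num : 2898 + 168 = 3066))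

theorem iv25 {G : Type*} [Group G] {φ : G →* Equiv.Perm ℕ} {ev : ℕ → G} (h : IsAct φ ev img 5586 7) :
    orb φ (gen ev Ws) 3066 = Set.Ico 3066 3234 :=
  ivl_sound h (by decide +kernel) (allR_range q25_0 (by norm_num : 3066 + 168 = 3234))

theorem iv26 {G : Type*} [Group G] {φ : G →* Equiv.Perm ℕ} {ev : ℕ → G} (h : IsAct φ ev img 5586 7) :
    orb φ (gen ev Ws) 3234 = Set.Ico 3234 3570 :=
  ivl_sound h (by decide +kernel) (allR_range q26_0 (by norm_num : 3234 + 336 = 3570))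

theorem iv27 {G : Type*} [Group G] {φ : G →* Equiv.Perm ℕ} {ev : ℕ → G} (h : IsAct φ ev img 5586 7) :
    orb φ (gen ev Ws) 3570 = Set.Ico 3570 3906 :=
  ivl_sound h (by decide +kernel) (allR_range q27_0 (by norm_num : 3570 + 336 = 3906))

theorem iv28 {G : Type*} [Group G] {φ : G →* Equiv.Perm ℕ} {ev : ℕ → G} (h : IsAct φ ev img 5586 7) :
    orb φ (gen ev Ws) 3906 = Set.Ico 3906 4242 :=
  ivl_sound h (by decide +kernel) (allR_range q28_0 (by norm_num : 3906 + 336 = 4242))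

theorem iv29 {G : Type*} [Group G] {φ : G →* Equiv.Perm ℕ} {ev : ℕ → G} (h : IsAct φ ev img 5586 7) :
    orb φ (gen ev Ws) 4242 = Set.Ico 4242 4578 :=
  ivl_sound h (by decide +kernel) (allR_range q29_0 (by norm_num : 4242 + 336 = 4578))

theorem iv30 {G : Type*} [Group G] {φ : G →* Equiv.Perm ℕ} {ev : ℕ → G} (h : IsAct φ ev img 5586 7) :
    orb φ (gen ev Ws) 4578 = Set.Ico 4578 4914 :=
  ivl_sound h (by decide +kernel) (allR_range q30_0 (by norm_num : 4578 + 336 = 4914))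

theorem iv31 {G : Type*} [Group G] {φ : G →* Equiv.Perm ℕ} {ev : ℕ → G} (h : IsAct φ ev img 5586 7) :
    orb φ (gen ev Ws) 4914 = Set.Ico 4914 5250 :=
  ivl_sound h (by decide +kernel) (allR_range q31_0 (by norm_num : 4914 + 336 = 5250))

theorem iv32 {G : Type*} [Group G] {φ : G →* Equiv.Perm ℕ} {ev : ℕ → G} (h : IsAct φ ev img 5586 7) :
    orb φ (gen ev Ws) 5250 = Set.Ico 5250 5586 :=
  ivl_sound h (by decide +kernel) (allR_range q32_0 (by norm_num : 5250 + 336 = 5586))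


end Cfsg.H6.L37
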